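import Mathlib

/-!
# The closure of a finite module along a specialization-closed set, algebraically

For a set `Zs` of primes, `Hull Zs M` is the limit of the localisations `M_Q`, `Q ∉ Zs`.
-/

set_option autoImplicit false
set_option linter.style.haveILetI false
set_option linter.dupNamespace false

namespace Groth.Agent.Der55.Hull

universe u

variable {R : Type u} [CommRing R] (Zs : Set (PrimeSpectrum R))
  {M : Type u} [AddCommGroup M] [Module R M] {N : Type u} [AddCommGroup N] [Module R N]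
  {P : Type u} [AddCommGroup P] [Module R P]

variable (M) in
/-- The localisation at a point. -/
abbrev Loc (Q : PrimeSpectrum R) : Type u := LocalizedModule Q.asIdeal.primeCompl M

/-- Denominators at `Q` are denominators at generalisations. -/
def shrink {Q Q' : PrimeSpectrum R} (h : Q'.asIdeal ≤ Q.asIdeal) (s : Q.asIdeal.primeCompl) :
    Q'.asIdeal.primeCompl :=
  ⟨(s : R), fun hs => s.2 (h hs)⟩

/-- The map between localisations. -/
noncomputable def sp {Q Q' : PrimeSpectrum R} (h : Q'.asIdeal ≤ Q.asIdeal) : Loc M Q →ₗ[R] Loc M Q' :=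
  LocalizedModule.lift Q.asIdeal.primeCompl (LocalizedModule.mkLinearMap Q'.asIdeal.primeCompl M)
    fun s => show IsUnit (algebraMap R (Module.End R (Loc M Q')) (s : R)) from
      IsLocalizedModule.map_units (LocalizedModule.mkLinearMap Q'.asIdeal.primeCompl M) (shrink h s)

theorem sp_mk {Q Q' : PrimeSpectrum R} (h : Q'.asIdeal ≤ Q.asIdeal) (m : M) (s : Q.asIdeal.primeCompl) :
    sp h (LocalizedModule.mk m s) = LocalizedModule.mk m (shrink h s) := by
  rw [sp, LocalizedModule.lift_mk, Module.End.algebraMap_isUnit_inv_apply_eq_iff,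
    LocalizedModule.smul'_mk, LocalizedModule.mkLinearMap_apply]
  exact (LocalizedModule.mk_cancel (shrink h s) m).symm

/-- Functoriality of the localisation. -/
noncomputable def mapLoc (f : M →ₗ[R] N) (Q : PrimeSpectrum R) : Loc M Q →ₗ[R] Loc N Q :=
  LocalizedModule.lift Q.asIdeal.primeCompl ((LocalizedModule.mkLinearMap Q.asIdeal.primeCompl N).comp f)
    (IsLocalizedModule.map_units (LocalizedModule.mkLinearMap Q.asIdeal.primeCompl N))

theorem mapLoc_mk (f : M →ₗ[R] N) (Q : PrimeSpectrum R) (m : M) (s : Q.asIdeal.primeCompl) :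
    mapLoc f Q (LocalizedModule.mk m s) = LocalizedModule.mk (f m) s := by
  rw [mapLoc, LocalizedModule.lift_mk, Module.End.algebraMap_isUnit_inv_apply_eq_iff,
    LocalizedModule.smul'_mk, LinearMap.comp_apply, LocalizedModule.mkLinearMap_apply]
  exact (LocalizedModule.mk_cancel s (f m)).symm

theorem mk_eq_zero_iff {Q : PrimeSpectrum R} (m : M) (s : Q.asIdeal.primeCompl) :
    (LocalizedModule.mk m s : Loc M Q) = 0 ↔ ∃ t : R, t ∉ Q.asIdeal ∧ t • m = 0 := by
  rw [← LocalizedModule.zero_mk s, LocalizedModule.mk_eq]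
  constructor
  · rintro ⟨u, hu⟩
    refine ⟨(u : R) * s, (u * s).2, ?_⟩
    rw [mul_smul]
    simpa [Submonoid.smul_def] using hu
  · rintro ⟨t, ht, h⟩
    refine ⟨⟨t, ht⟩, ?_⟩
    simp only [Submonoid.smul_def, smul_zero]
    rw [smul_comm, h, smul_zero]

theorem mapLoc_injective {f : M →ₗ[R] N} (hf : Function.Injective f) (Q : PrimeSpectrum R) :
    Function.Injective (mapLoc f Q) := by
  rw [injective_iff_map_eq_zero]
  intro x hx
  induction x using LocalizedModule.induction_on with | _ m s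
  rw [mapLoc_mk, mk_eq_zero_iff] at hx
  obtain ⟨t, ht, h⟩ := hx
  exact (mk_eq_zero_iff m s).2 ⟨t, ht, hf (by rw [map_smul, h, map_zero])⟩

theorem mapLoc_exact {f : M →ₗ[R] N} {g : N →ₗ[R] P} (h : Function.Exact f g) (Q : PrimeSpectrum R)
    {x : Loc N Q} (hx : mapLoc g Q x = 0) : ∃ y, mapLoc f Q y = x := by
  induction x using LocalizedModule.induction_on with | _ n s
  rw [mapLoc_mk, mk_eq_zero_iff] at hx
  obtain ⟨t, ht, h0⟩ := hx
  obtain ⟨m, hm⟩ := (h (t • n)).1 (by rw [map_smul, h0])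
  refine ⟨LocalizedModule.mk m (⟨t, ht⟩ * s), ?_⟩
  rw [mapLoc_mk, hm]
  exact LocalizedModule.mk_cancel_common_left ⟨t, ht⟩ s n

theorem sp_mapLoc (f : M →ₗ[R] N) {Q Q' : PrimeSpectrum R} (h : Q'.asIdeal ≤ Q.asIdeal) (x : Loc M Q) :
    sp h (mapLoc f Q x) = mapLoc f Q' (sp h x) := by
  induction x using LocalizedModule.induction_on with | _ m s
  rw [mapLoc_mk, sp_mk, sp_mk, mapLoc_mk]

variable (M) in
/-- Compatible families of elements of the localisations outside `Zs`. -/
noncomputable def Hull : Submodule R (∀ Q : {Q : PrimeSpectrum R // Q ∉ Zs}, Loc M Q.1) where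
  carrier := {ξ | ∀ (Q Q' : {Q : PrimeSpectrum R // Q ∉ Zs}) (h : Q'.1.asIdeal ≤ Q.1.asIdeal), sp h (ξ Q) = ξ Q'}
  add_mem' hξ hη Q Q' h := by simp only [Pi.add_apply, map_add, hξ Q Q' h, hη Q Q' h]
  zero_mem' Q Q' h := by simp only [Pi.zero_apply, map_zero]
  smul_mem' r ξ hξ Q Q' h := by simp only [Pi.smul_apply, map_smul, hξ Q Q' h]

/-- Functoriality. -/
noncomputable def map (f : M →ₗ[R] N) : Hull Zs M →ₗ[R] Hull Zs N where
  toFun ξ := ⟨fun Q => mapLoc f Q.1 (ξ.1 Q), fun Q Q' h => by rw [sp_mapLoc, ξ.2 Q Q' h]⟩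
  map_add' ξ η := Subtype.ext <| funext fun Q => map_add (mapLoc f Q.1) _ _
  map_smul' r ξ := Subtype.ext <| funext fun Q => map_smul (mapLoc f Q.1) r _

theorem map_apply (f : M →ₗ[R] N) (ξ : Hull Zs M) (Q : {Q : PrimeSpectrum R // Q ∉ Zs}) :
    (map Zs f ξ).1 Q = mapLoc f Q.1 (ξ.1 Q) := rfl

theorem map_injective {f : M →ₗ[R] N} (hf : Function.Injective f) : Function.Injective (map Zs f) :=
  fun ξ η h => Subtype.ext <| funext fun Q => mapLoc_injective hf Q.1 (congrFun (congrArg Subtype.val h) Q)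

theorem ker_map_le {f : M →ₗ[R] N} {g : N →ₗ[R] P} (hf : Function.Injective f) (h : Function.Exact f g) :
    LinearMap.ker (map Zs g) ≤ LinearMap.range (map Zs f) := by
  intro ξ hξ
  have h0 : ∀ Q, mapLoc g Q.1 (ξ.1 Q) = 0 := fun Q =>
    congrFun (congrArg Subtype.val (LinearMap.mem_ker.1 hξ)) Q
  choose η hη using fun Q : {Q : PrimeSpectrum R // Q ∉ Zs} => mapLoc_exact h Q.1 (h0 Q)
  exact ⟨⟨η, fun Q Q' hle => mapLoc_injective hf Q'.1 (by rw [← sp_mapLoc, hη, hη, ξ.2 Q Q' hle])⟩,
    Subtype.ext (funext hη)⟩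

variable [IsNoetherianRing R]

/-- Left exactness preserves finiteness. -/
theorem finite_of_exact {f : M →ₗ[R] N} {g : N →ₗ[R] P} (hf : Function.Injective f) (h : Function.Exact f g)
    (hM : Module.Finite R (Hull Zs M)) (hP : Module.Finite R (Hull Zs P)) : Module.Finite R (Hull Zs N) := by
  haveI : IsNoetherian R (Hull Zs M) := isNoetherian_of_isNoetherianRing_of_finite R _
  haveI : IsNoetherian R (Hull Zs P) := isNoetherian_of_isNoetherianRing_of_finite R _
  refine ⟨Submodule.fg_of_fg_map_of_fg_inf_ker (map Zs g) (IsNoetherian.noetherian _) ?_⟩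
  rw [top_inf_eq]
  have : IsNoetherian R (LinearMap.range (map Zs f)) :=
    isNoetherian_of_surjective (map Zs f).rangeRestrict (LinearMap.range_rangeRestrict _)
  exact Module.Finite.iff_fg.1 (Module.Finite.of_injective (Submodule.inclusion (ker_map_le Zs hf h))
    (Submodule.inclusion_injective _))

omit [IsNoetherianRing R] in
theorem mapLoc_eq_zero_pi {ι : Type*} [Finite ι] {L : ι → Type u} [∀ i, AddCommGroup (L i)] [∀ i, Module R (L i)]
    (f : ∀ i, M →ₗ[R] L i) (hf : ∀ m, (∀ i, f i m = 0) → m = 0) {Q : PrimeSpectrum R} {x : Loc M Q}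
    (hx : ∀ i, mapLoc (f i) Q x = 0) : x = 0 := by
  cases nonempty_fintype ι
  induction x using LocalizedModule.induction_on with | _ m s
  have h : ∀ i, ∃ t : R, t ∉ Q.asIdeal ∧ t • f i m = 0 := fun i => by
    have := hx i
    rwa [mapLoc_mk, mk_eq_zero_iff] at this
  choose t ht h0 using h
  refine (mk_eq_zero_iff m s).2 ⟨∏ i, t i, fun h => ?_, hf _ fun i => ?_⟩
  · obtain ⟨i, -, hi⟩ := (Q.isPrime.prod_mem_iff).1 h
    exact ht i hi
  · classical
    rw [map_smul, ← Finset.mul_prod_erase Finset.univ t (Finset.mem_univ i), mul_comm, mul_smul, h0 i, smul_zero]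

/-- A finite jointly injective family preserves finiteness. -/
theorem finite_of_pi {ι : Type*} [Finite ι] {L : ι → Type u} [∀ i, AddCommGroup (L i)] [∀ i, Module R (L i)]
    (f : ∀ i, M →ₗ[R] L i) (hf : ∀ m, (∀ i, f i m = 0) → m = 0)
    (hL : ∀ i, Module.Finite R (Hull Zs (L i))) : Module.Finite R (Hull Zs M) := by
  haveI := hL
  haveI : IsNoetherian R (∀ i, Hull Zs (L i)) := isNoetherian_of_isNoetherianRing_of_finite R _
  refine Module.Finite.of_injective (LinearMap.pi fun i => map Zs (f i)) fun ξ η h => ?_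
  refine Subtype.ext <| funext fun Q => sub_eq_zero.1 (mapLoc_eq_zero_pi f hf fun i => ?_)
  rw [map_sub, sub_eq_zero]
  exact congrFun (congrArg Subtype.val (congrFun h i)) Q

omit [IsNoetherianRing R] in
/-- Nothing remains of a module supported in `Zs`. -/
theorem subsingleton_hull (h : ∀ Q : PrimeSpectrum R, Q ∉ Zs → ∀ m : M, ∃ t : R, t ∉ Q.asIdeal ∧ t • m = 0) :
    Subsingleton (Hull Zs M) := by
  refine subsingleton_of_forall_eq 0 fun ξ => Subtype.ext <| funext fun Q => ?_
  show ξ.1 Q = 0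
  obtain ⟨m, s, hms⟩ : ∃ m s, LocalizedModule.mk m s = ξ.1 Q := by
    induction ξ.1 Q using LocalizedModule.induction_on with | _ m s => exact ⟨m, s, rfl⟩
  rw [← hms, mk_eq_zero_iff]
  exact h Q.1 Q.2 m

end Groth.Agent.Der55.Hull
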