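import Groth.Agent.Der55.Hull.Spec

/-!
# Coherence of closures gives finiteness of the height-one hull
-/

set_option autoImplicit false
set_option linter.style.haveILetI false

universe u

open CategoryTheory CategoryTheory.Limits AlgebraicGeometry TopologicalSpace Opposite

namespace Groth.Agent.Der55.Hull

open Groth.Agent.ZClosLib

/-- A submodule of the fraction field lifted to a finite module is finite. -/
theorem finite_of_lifts {A : Type u} [CommRing A] [IsNoetherianRing A] (q : Ideal A) [q.IsPrime]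
    {G L : Type u} [AddCommGroup G] [Module A G] [Module.Finite A G] [AddCommGroup L] [Module A L]
    (γ : G →ₗ[A] L) (δ : (A ⧸ q) →ₗ[A] L) (hδ : ∀ b, δ b = 0 → b = 0)
    (T : Submodule A (FractionRing (A ⧸ q)))
    (h : ∀ x ∈ T, ∃ (z : G) (t : A) (b : A ⧸ q), t ∉ q ∧ t • γ z = δ b ∧
      t • x = algebraMap (A ⧸ q) (FractionRing (A ⧸ q)) b) :
    Module.Finite A T := by
  let j : (A ⧸ q) →ₗ[A] FractionRing (A ⧸ q) :=
    (Algebra.linearMap (A ⧸ q) (FractionRing (A ⧸ q))).restrictScalars A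
  let W : Submodule A (G × FractionRing (A ⧸ q)) :=
    { carrier := {p | ∃ (t : A) (b : A ⧸ q), t ∉ q ∧ t • γ p.1 = δ b ∧ t • p.2 = j b}
      add_mem' := by
        rintro p p' ⟨t, b, ht, h1, h2⟩ ⟨t', b', ht', h1', h2'⟩
        refine ⟨t * t', t' • b + t • b', ‹q.IsPrime›.mul_notMem ht ht', ?_, ?_⟩
        · rw [Prod.fst_add, map_add, smul_add, map_add, map_smul, map_smul, ← h1, ← h1', smul_smul, smul_smul,
            mul_comm t' t]
        · rw [Prod.snd_add, smul_add, map_add, map_smul, map_smul, ← h2, ← h2', smul_smul, smul_smul,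
            mul_comm t' t]
      zero_mem' := ⟨1, 0, fun h => ‹q.IsPrime›.ne_top ((Ideal.eq_top_iff_one q).2 h), by simp, by simp⟩
      smul_mem' := by
        rintro r p ⟨t, b, ht, h1, h2⟩
        refine ⟨t, r • b, ht, ?_, ?_⟩
        · rw [Prod.smul_fst, map_smul, map_smul, smul_comm, h1]
        · rw [Prod.smul_snd, map_smul, smul_comm, h2] }
  have hinj : Function.Injective ((LinearMap.fst A G (FractionRing (A ⧸ q))).comp W.subtype) := by
    rw [injective_iff_map_eq_zero]
    rintro ⟨⟨z, x⟩, t, b, ht, h1, h2⟩ (hz : z = 0)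
    subst hz
    rw [map_zero, smul_zero] at h1
    rw [hδ b h1.symm, map_zero, Algebra.smul_def, mul_eq_zero] at h2
    rcases h2 with h2 | h2
    · refine absurd (Ideal.Quotient.eq_zero_iff_mem.1 (IsFractionRing.injective (A ⧸ q) (FractionRing (A ⧸ q)) ?_)) ht
      rw [map_zero, ← h2]
      exact (IsScalarTower.algebraMap_apply A (A ⧸ q) (FractionRing (A ⧸ q)) t).symm
    · exact Subtype.ext (Prod.ext rfl h2)
  haveI : Module.Finite A W := Module.Finite.of_injective _ hinj
  haveI : IsNoetherian A W := isNoetherian_of_isNoetherianRing_of_finite A W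
  let π : W →ₗ[A] FractionRing (A ⧸ q) := (LinearMap.snd A G (FractionRing (A ⧸ q))).comp W.subtype
  haveI : IsNoetherian A (LinearMap.range π) :=
    isNoetherian_of_surjective π.rangeRestrict π.range_rangeRestrict
  refine Module.Finite.of_injective (Submodule.inclusion (fun x hx => ?_ : T ≤ LinearMap.range π))
    (Submodule.inclusion_injective _)
  obtain ⟨z, t, b, ht, h1, h2⟩ := h x hx
  exact ⟨⟨(z, x), t, b, ht, h1, h2⟩, rfl⟩

/-- Transporting a division identity along `ρ`. -/
theorem smul_germ_of_res {X : Scheme.{u}} [IsLocallyNoetherian X] {Z : Set X} {F : X.Modules} {V W D : X.Opens}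
    (h : W ≤ V) (hD : D ≤ W) {y : X} (hy : y ∈ D) (z : Γ((ZClos.H0 Z).obj F, V)) (σ : Γ(F, W)) (u : Γ(F, V))
    (g : X.presheaf.stalk y) (hz : res ((ZClos.H0 Z).obj F) h z = (ZClos.rhoApp Z F).app W σ)
    (hσ : g • F.presheaf.germ D y hy (res F hD σ) = F.presheaf.germ V y (h (hD hy)) u) :
    g • ((ZClos.H0 Z).obj F).presheaf.germ V y (h (hD hy)) z =
      ((ZClos.H0 Z).obj F).presheaf.germ V y (h (hD hy)) ((ZClos.rhoApp Z F).app V u) := by
  rw [← germ_res ((ZClos.H0 Z).obj F) h (hD hy) z, hz, ← germ_rho W (hD hy), ← germ_rho V (h (hD hy)), ← hσ,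
    germ_res]
  exact (((DerSch.stalkFunctor X y).map (ZClos.rhoApp Z F)).hom.map_smul g _).symm

variable (A : Type u) [CommRing A] [IsNoetherianRing A] (q : Ideal A) [q.IsPrime]

/-- The primes of height at least two above `q`. -/
def twoSet : Set (PrimeSpectrum A) :=
  {y | q ≤ y.asIdeal ∧ (2 : ℕ∞) ≤ (y.asIdeal.map (Ideal.Quotient.mk q)).height}

omit [IsNoetherianRing A] [q.IsPrime] in
theorem stable_twoSet : StableUnderSpecialization (twoSet A q) := fun a b hab ⟨h1, h2⟩ => by
  have hle : a.asIdeal ≤ b.asIdeal := (PrimeSpectrum.le_iff_specializes a b).2 hab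
  exact ⟨h1.trans hle, h2.trans (Ideal.height_mono (Ideal.map_mono hle))⟩

theorem heightOneHullFinite_of_isCoh
    (hG : Coh.IsCoh ((ZClos.H0 (X := Spec (CommRingCat.of A)) (twoSet A q)).obj (EGA4.tildeOf A (A ⧸ q)))) :
    EGA4.HeightOneHullFinite (A ⧸ q) := by
  let X := Spec (CommRingCat.of A)
  let F : X.Modules := EGA4.tildeOf A (A ⧸ q)
  let G : X.Modules := (ZClos.H0 (X := X) (twoSet A q)).obj F
  let e := gEquiv A
  let y₀ : X := (⟨q, inferInstance⟩ : PrimeSpectrum A)
  have hy₀ : y₀ ∉ twoSet A q := fun h => by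
    have h2 := h.2
    rw [show y₀.asIdeal = q from rfl, Ideal.map_quotient_self, Ideal.height_bot] at h2
    exact absurd h2 (by decide)
  letI : Algebra A Γ(X, ⊤) := e.toRingHom.toAlgebra
  letI : Module A Γ(F, ⊤) := Module.compHom _ e.toRingHom
  letI : Module A Γ(G, ⊤) := Module.compHom _ e.toRingHom
  letI : Module A (G.presheaf.stalk y₀) :=
    Module.compHom _ ((X.presheaf.germ ⊤ y₀ trivial).hom.comp e.toRingHom)
  haveI : IsScalarTower A Γ(X, ⊤) Γ(G, ⊤) := IsScalarTower.of_algebraMap_smul fun _ _ => rfl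
  haveI : Module.Finite A Γ(X, ⊤) := Module.Finite.of_surjective (Algebra.linearMap A Γ(X, ⊤)) e.surjective
  haveI := ZClosLib.finite_sections hG (isAffineOpen_top X)
  haveI : Module.Finite A Γ(G, ⊤) := Module.Finite.trans Γ(X, ⊤) _
  let sec : (A ⧸ q) ≃ₗ[A] Γ(F, ⊤) := secEquiv A (A ⧸ q)
  let γ : Γ(G, ⊤) →ₗ[A] G.presheaf.stalk y₀ :=
    { toFun := G.presheaf.germ ⊤ y₀ trivial
      map_add' := map_add (G.presheaf.germ ⊤ y₀ trivial).hom
      map_smul' := fun r s => QCoh.germ_smul' G (show y₀ ∈ (⊤ : X.Opens) from trivial) (e r) s }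
  haveI : IsScalarTower A Γ(X, ⊤) Γ(F, ⊤) := IsScalarTower.of_algebraMap_smul fun _ _ => rfl
  let ρ : Γ(F, ⊤) →ₗ[A] Γ(G, ⊤) := (rhoLin (X := X) (twoSet A q) F ⊤).restrictScalars A
  let B : Subalgebra (A ⧸ q) (FractionRing (A ⧸ q)) :=
    { carrier := EGA4.heightOneHull (A ⧸ q)
      mul_mem' := by
        intro x y hx hy p hp h
        obtain ⟨s, hs, a, ha⟩ := hx p h
        obtain ⟨t, ht, b, hb⟩ := hy p h
        exact ⟨s * t, hp.mul_notMem hs ht, a * b, by rw [map_mul, map_mul, ha, hb]; ring⟩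
      add_mem' := by
        intro x y hx hy p hp h
        obtain ⟨s, hs, a, ha⟩ := hx p h
        obtain ⟨t, ht, b, hb⟩ := hy p h
        exact ⟨s * t, hp.mul_notMem hs ht, a * t + b * s, by
          rw [map_add, map_mul, map_mul, map_mul, ha, hb]; ring⟩
      algebraMap_mem' := fun r p hp _ => ⟨1, fun h => hp.ne_top ((Ideal.eq_top_iff_one p).2 h), r, by simp⟩ }
  haveI : Module.Finite A (B.toSubmodule.restrictScalars A) := by
    refine finite_of_lifts q γ (γ.comp (ρ.comp sec.toLinearMap)) (fun b hb => ?_) _ fun x hx => ?_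
    · have h0 : F.presheaf.germ ⊤ y₀ trivial (sec b) = 0 :=
        (isZClosedAt_of_not_mem (X := X) (Z := twoSet A q) F hy₀).1
          (((germ_rho (X := X) ⊤ trivial (sec b)).trans hb).trans (map_zero _).symm)
      obtain ⟨f, hf, hfm⟩ := (QCoh.germ_eq_zero_iff (isCoh_tildeOf A (A ⧸ q)).1 (isAffineOpen_top X) trivial _).1 h0
      obtain ⟨t, rfl⟩ := e.surjective f
      have ht : t ∉ q := (mem_basicOpen_gEquiv A y₀ t).1 hf
      have h1 : t • b = 0 := sec.map_eq_zero_iff.1 ((map_smul sec t b).trans hfm)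
      have h2 : Ideal.Quotient.mk q t * b = 0 := h1
      exact (mul_eq_zero.1 h2).resolve_left fun h => ht (Ideal.Quotient.eq_zero_iff_mem.1 h)
    · change x ∈ EGA4.heightOneHull (A ⧸ q) at hx
      let ι := {p : A × (A ⧸ q) // p.1 • x = algebraMap (A ⧸ q) (FractionRing (A ⧸ q)) p.2}
      have hjinj := IsFractionRing.injective (A ⧸ q) (FractionRing (A ⧸ q))
      let D : ι → X.Opens := fun i => X.basicOpen (e i.1.1)
      choose σ hσ using fun i : ι => exists_div (F := F) (e i.1.1) (le_refl (D i)) (sec i.1.2)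
      have hcompat : ∀ i i', res F inf_le_left (σ i) = res F (inf_le_right : D i ⊓ D i' ≤ D i') (σ i') := by
        intro i i'
        refine section_ext F _ _ fun y hy => ?_
        rw [germ_res, germ_res]
        have hu : IsUnit (X.presheaf.germ ⊤ y trivial (e i.1.1) * X.presheaf.germ ⊤ y trivial (e i'.1.1)) :=
          ((X.mem_basicOpen _ y (show y ∈ (⊤ : X.Opens) from trivial)).1 hy.1).mul ((X.mem_basicOpen _ y (show y ∈ (⊤ : X.Opens) from trivial)).1 hy.2)
        refine hu.smul_left_cancel.1 ?_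
        conv_lhs => rw [mul_comm, mul_smul, hσ i y hy.1, ← QCoh.germ_smul']
        conv_rhs => rw [mul_smul, hσ i' y hy.2, ← QCoh.germ_smul']
        congr 1
        show i'.1.1 • sec i.1.2 = i.1.1 • sec i'.1.2
        rw [← map_smul, ← map_smul]
        congr 1
        refine hjinj ?_
        rw [Algebra.smul_def, Algebra.smul_def, map_mul, map_mul, ← IsScalarTower.algebraMap_apply,
          ← IsScalarTower.algebraMap_apply, ← i.2, ← i'.2, Algebra.smul_def, Algebra.smul_def]
        ring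
      obtain ⟨i₀, hi₀⟩ : ∃ i : ι, i.1.1 ∉ q := by
        obtain ⟨c, d, hd, hx'⟩ := IsFractionRing.div_surjective (A := A ⧸ q) x
        obtain ⟨t, rfl⟩ := Ideal.Quotient.mk_surjective d
        have hd0 := nonZeroDivisors.ne_zero hd
        refine ⟨⟨(t, c), ?_⟩, fun h => hd0 (Ideal.Quotient.eq_zero_iff_mem.2 h)⟩
        rw [← hx', Algebra.smul_def, IsScalarTower.algebraMap_apply A (A ⧸ q) (FractionRing (A ⧸ q)),
          Ideal.Quotient.algebraMap_eq,
          mul_div_cancel₀ _ fun h => hd0 (hjinj (h.trans (map_zero _).symm))]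
      have hsub : ((⨆ i, D i : X.Opens) : Set X)ᶜ ⊆ twoSet A q := by
        intro y hy
        have hmem : ∀ i : ι, i.1.1 ∈ y.asIdeal := fun i => by_contra fun h =>
          hy (Opens.mem_iSup.2 ⟨i, (mem_basicOpen_gEquiv A y _).2 h⟩)
        have hle : q ≤ y.asIdeal := fun r hr => hmem ⟨(r, 0), by
          rw [map_zero, Algebra.smul_def, IsScalarTower.algebraMap_apply A (A ⧸ q) (FractionRing (A ⧸ q)),
            Ideal.Quotient.algebraMap_eq, Ideal.Quotient.eq_zero_iff_mem.2 hr, map_zero, zero_mul]⟩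
        have hP : (y.asIdeal.map (Ideal.Quotient.mk q)).IsPrime :=
          Ideal.map_isPrime_of_surjective Ideal.Quotient.mk_surjective (by rw [Ideal.mk_ker]; exact hle)
        refine ⟨hle, ?_⟩
        by_contra hlt
        have hh : (y.asIdeal.map (Ideal.Quotient.mk q)).height ≤ 1 := by
          cases hn : (y.asIdeal.map (Ideal.Quotient.mk q)).height with
          | top => rw [hn] at hlt; exact absurd le_top hlt
          | coe n =>
            rw [hn] at hlt
            have : n < 2 := by exact_mod_cast not_le.1 hlt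
            exact_mod_cast Nat.lt_succ_iff.1 this
        have hcomap : ∀ r, Ideal.Quotient.mk q r ∈ y.asIdeal.map (Ideal.Quotient.mk q) → r ∈ y.asIdeal :=
          fun r hr => by
            have := Ideal.mem_comap.2 hr
            rwa [Ideal.comap_map_of_surjective' _ Ideal.Quotient.mk_surjective, Ideal.mk_ker,
              sup_eq_left.2 hle] at this
        rcases eq_or_ne (y.asIdeal.map (Ideal.Quotient.mk q)).height 0 with h0 | h0
        · rw [Ideal.height_eq_zero_iff_eq_bot] at h0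
          refine hi₀ (Ideal.Quotient.eq_zero_iff_mem.1 ?_)
          have := Ideal.mem_map_of_mem (Ideal.Quotient.mk q) (hmem i₀)
          rw [h0] at this
          exact this
        · obtain ⟨s, hs, b, hb⟩ := hx _ (le_antisymm hh (Order.one_le_iff_ne_zero.2 h0))
          obtain ⟨t, rfl⟩ := Ideal.Quotient.mk_surjective s
          refine hs (Ideal.mem_map_of_mem _ (hmem ⟨(t, b), ?_⟩))
          rw [hb, Algebra.smul_def, IsScalarTower.algebraMap_apply A (A ⧸ q) (FractionRing (A ⧸ q))]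
          rfl
      let S : ZClos.Cl (X := X) (twoSet A q) := ⟨⟨_, (⨆ i, D i : X.Opens).2.isClosed_compl⟩, hsub⟩
      have hSU : ∀ y : X, y ∈ S.U ↔ ∃ i, y ∈ D i := fun y => by
        show ¬ ¬ y ∈ (⨆ i, D i : X.Opens) ↔ _
        rw [not_not, Opens.mem_iSup]
      obtain ⟨σg, hσg⟩ := exists_glue F (U := ⊤ ⊓ S.U) D (fun i y hy => ⟨trivial, (hSU y).2 ⟨i, hy⟩⟩)
        (fun y hy => (hSU y).1 hy.2) σ hcompat
      obtain ⟨z, hz⟩ := (res_H0_bijective (F := F) S (isAffineOpen_top X).isCompact).2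
        ((ZClos.rhoApp (twoSet A q) F).app (⊤ ⊓ S.U) σg)
      refine ⟨z, i₀.1.1, i₀.1.2, hi₀, ?_, i₀.2⟩
      show X.presheaf.germ ⊤ y₀ trivial (e i₀.1.1) • G.presheaf.germ ⊤ y₀ trivial z =
        G.presheaf.germ ⊤ y₀ trivial ((ZClos.rhoApp (twoSet A q) F).app ⊤ (sec i₀.1.2))
      have hy₀D : y₀ ∈ D i₀ := (mem_basicOpen_gEquiv A y₀ _).2 hi₀
      exact smul_germ_of_res (F := F) inf_le_left (show D i₀ ≤ ⊤ ⊓ S.U from fun y hy => ⟨trivial, (hSU y).2 ⟨i₀, hy⟩⟩) hy₀D z σg
        (sec i₀.1.2) _ hz ((congrArg (fun s => X.presheaf.germ ⊤ y₀ trivial (e i₀.1.1) •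
          F.presheaf.germ (D i₀) y₀ hy₀D s) (hσg i₀)).trans (hσ i₀ y₀ hy₀D))
  refine ⟨B, rfl, ?_⟩
  haveI : Module.Finite A B := ‹Module.Finite A (B.toSubmodule.restrictScalars A)›
  exact Module.Finite.of_restrictScalars_finite A (A ⧸ q) B

end Groth.Agent.Der55.Hull
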