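import Groth.Agent.Der55.Hull.Alg
import Groth.Prelude.Def_EGA4b

/-!
# Finiteness of the closure of a finite module
-/

set_option autoImplicit false
set_option linter.style.haveILetI false
set_option linter.unusedSectionVars false

namespace Groth.Agent.Der55.Hull

universe u

open Pointwise

/-- A finite torsion-free module over a domain has finitely many functionals separating its points. -/
theorem exists_functionals (B : Type u) [CommRing B] [IsDomain B] (N : Type u) [AddCommGroup N] [Module B N]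
    [Module.Finite B N] (ht : ∀ (b : B) (n : N), b ≠ 0 → b • n = 0 → n = 0) :
    ∃ (n : ℕ) (f : Fin n → (N →ₗ[B] B)), ∀ x, (∀ i, f i x = 0) → x = 0 := by
  classical
  let K := FractionRing B
  let L := LocalizedModule (nonZeroDivisors B) N
  let ι : N →ₗ[B] L := LocalizedModule.mkLinearMap (nonZeroDivisors B) N
  have hι : ∀ x, ι x = 0 → x = 0 := fun x hx => by
    rw [← map_zero ι] at hx
    obtain ⟨c, hc⟩ := IsLocalizedModule.exists_of_eq (S := nonZeroDivisors B) hx
    rw [smul_zero] at hc
    exact ht c x (nonZeroDivisors.ne_zero c.2) hc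
  haveI : Module.Finite K L := Module.Finite.of_isLocalizedModule (nonZeroDivisors B) (Rₚ := K) ι
  let b := Module.finBasis K L
  obtain ⟨T, hT⟩ := (Module.Finite.fg_top : (⊤ : Submodule B N).FG)
  let g : Fin (Module.finrank K L) → (N →ₗ[B] K) := fun i => ((b.coord i).restrictScalars B).comp ι
  obtain ⟨⟨e, he⟩, hint⟩ := IsLocalization.exist_integer_multiples (nonZeroDivisors B)
    (Finset.univ ×ˢ T) (fun p => g p.1 p.2)
  have hmem : ∀ i x, (e • g i) x ∈ LinearMap.range (Algebra.linearMap B K) := by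
    intro i x
    have hx : x ∈ Submodule.span B (T : Set N) := hT ▸ Submodule.mem_top
    refine Submodule.span_le (p := (LinearMap.range (Algebra.linearMap B K)).comap (e • g i)) |>.2 ?_ hx
    intro y hy
    obtain ⟨c, hc⟩ := hint (i, y) (Finset.mem_product.2 ⟨Finset.mem_univ _, hy⟩)
    exact ⟨c, hc⟩
  let eB : B ≃ₗ[B] LinearMap.range (Algebra.linearMap B K) :=
    LinearEquiv.ofInjective (Algebra.linearMap B K) (IsFractionRing.injective B K)
  refine ⟨_, fun i => eB.symm.toLinearMap.comp ((e • g i).codRestrict _ (hmem i)), fun x hx => hι x ?_⟩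
  refine b.forall_coord_eq_zero_iff.1 fun i => ?_
  have h : (e • g i) x = 0 := congrArg Subtype.val (eB.symm.map_eq_zero_iff.1 (hx i))
  have he0 : algebraMap B K e ≠ 0 := fun h => nonZeroDivisors.ne_zero he
    (IsFractionRing.injective B K (h.trans (map_zero _).symm))
  rw [LinearMap.smul_apply, Algebra.smul_def, mul_eq_zero] at h
  exact h.resolve_left he0

variable {R : Type u} [CommRing R] (Zs : Set (PrimeSpectrum R))

/-- The hypothesis at a prime. -/
def Good (p : PrimeSpectrum R) : Prop :=
  p ∉ Zs → EGA4.HeightOneHullFinite (R ⧸ p.asIdeal) ∧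
    ∀ y ∈ Zs, p.asIdeal ≤ y.asIdeal → (2 : ℕ∞) ≤ (y.asIdeal.map (Ideal.Quotient.mk p.asIdeal)).height

variable [IsNoetherianRing R]

/-- The base case: a domain quotient. -/
theorem finite_quot (p : PrimeSpectrum R) (hp : p ∉ Zs) (hg : Good Zs p) :
    Module.Finite R (Hull Zs (R ⧸ p.asIdeal)) := by
  obtain ⟨⟨T, hT, hfin⟩, hht⟩ := hg hp
  let K := FractionRing (R ⧸ p.asIdeal)
  let j : (R ⧸ p.asIdeal) →ₗ[R] K := (Algebra.linearMap (R ⧸ p.asIdeal) K).restrictScalars R
  have hj : Function.Injective j := IsFractionRing.injective (R ⧸ p.asIdeal) K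
  have hne : ∀ s : p.asIdeal.primeCompl, algebraMap R K (s : R) ≠ 0 := fun s h => s.2
    (Ideal.Quotient.eq_zero_iff_mem.1 (hj ((IsScalarTower.algebraMap_apply R (R ⧸ p.asIdeal) K _).symm.trans
      (h.trans (map_zero j).symm))))
  let ε : Loc (R ⧸ p.asIdeal) p →ₗ[R] K := LocalizedModule.lift p.asIdeal.primeCompl j fun s => by
    rw [Module.End.isUnit_iff]
    have : ⇑(algebraMap R (Module.End R K) (s : R)) = fun x => algebraMap R K s * x :=
      funext fun x => Algebra.smul_def (s : R) x
    rw [this]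
    exact mulLeft_bijective₀ _ (hne s)
  have hε : ∀ m (s : p.asIdeal.primeCompl), algebraMap R K (s : R) * ε (LocalizedModule.mk m s) = j m := fun m s => by
    rw [← Algebra.smul_def, ← map_smul, LocalizedModule.smul'_mk, ← Submonoid.smul_def,
      LocalizedModule.mk_cancel, LocalizedModule.lift_mk_one]
  let φ : Hull Zs (R ⧸ p.asIdeal) →ₗ[R] K :=
    ε.comp ((LinearMap.proj (⟨p, hp⟩ : {Q : PrimeSpectrum R // Q ∉ Zs})).comp (Submodule.subtype _))
  have hker : ∀ ξ, φ ξ = 0 → ξ = 0 := by
    intro ξ hξ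
    refine Subtype.ext <| funext fun Q => ?_
    show ξ.1 Q = 0
    have hp0 : ξ.1 ⟨p, hp⟩ = 0 := by
      change ε (ξ.1 ⟨p, hp⟩) = 0 at hξ
      generalize ξ.1 ⟨p, hp⟩ = x at hξ ⊢
      induction x using LocalizedModule.induction_on with | _ m s
      have : m = 0 := hj (by rw [← hε m s, hξ, mul_zero, map_zero])
      rw [this, LocalizedModule.zero_mk]
    by_cases hle : p.asIdeal ≤ Q.1.asIdeal
    · have h := ξ.2 Q ⟨p, hp⟩ hle
      rw [hp0] at h
      generalize ξ.1 Q = x at h ⊢
      induction x using LocalizedModule.induction_on with | _ m s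
      rw [sp_mk, mk_eq_zero_iff] at h
      obtain ⟨t, ht, h⟩ := h
      have h' : Ideal.Quotient.mk p.asIdeal t * m = 0 := h
      rcases mul_eq_zero.1 h' with h' | h'
      · exact absurd (Ideal.Quotient.eq_zero_iff_mem.1 h') ht
      · rw [h', LocalizedModule.zero_mk]
    · obtain ⟨t, htp, htQ⟩ := SetLike.not_le_iff_exists.1 hle
      generalize ξ.1 Q = x
      induction x using LocalizedModule.induction_on with | _ m s
      refine (mk_eq_zero_iff m s).2 ⟨t, htQ, ?_⟩
      rw [Algebra.smul_def, Ideal.Quotient.algebraMap_eq, Ideal.Quotient.eq_zero_iff_mem.2 htp, zero_mul]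
  have hrange : ∀ ξ, φ ξ ∈ T := by
    intro ξ
    rw [← SetLike.mem_coe, hT]
    intro P _ hP1
    let Q : PrimeSpectrum R := ⟨P.comap (Ideal.Quotient.mk p.asIdeal), inferInstance⟩
    have hle : p.asIdeal ≤ Q.asIdeal := fun r hr => by
      show Ideal.Quotient.mk _ r ∈ P
      rw [Ideal.Quotient.eq_zero_iff_mem.2 hr]
      exact zero_mem _
    have hQ : Q ∉ Zs := fun hQ => by
      have h2 := hht Q hQ hle
      rw [show Q.asIdeal.map (Ideal.Quotient.mk p.asIdeal) = P from
        Ideal.map_comap_of_surjective _ Ideal.Quotient.mk_surjective P, hP1] at h2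
      exact absurd h2 (by decide)
    have h := ξ.2 ⟨Q, hQ⟩ ⟨p, hp⟩ hle
    obtain ⟨m, s, hms⟩ : ∃ m s, LocalizedModule.mk m s = ξ.1 ⟨Q, hQ⟩ := by
      induction ξ.1 ⟨Q, hQ⟩ using LocalizedModule.induction_on with | _ m s => exact ⟨m, s, rfl⟩
    rw [← hms, sp_mk] at h
    refine ⟨Ideal.Quotient.mk p.asIdeal (s : R), fun h' => s.2 h', m, ?_⟩
    show _ = _ * ε (ξ.1 ⟨p, hp⟩)
    rw [← h, ← Ideal.Quotient.algebraMap_eq, ← IsScalarTower.algebraMap_apply R (R ⧸ p.asIdeal) K]
    exact (hε m (shrink hle s)).symm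
  haveI := hfin
  haveI : Module.Finite R T := Module.Finite.trans (R ⧸ p.asIdeal) T
  haveI : Module.Finite R (T.toSubmodule.restrictScalars R) := ‹Module.Finite R T›
  refine Module.Finite.of_injective (φ.codRestrict (T.toSubmodule.restrictScalars R) hrange) ?_
  refine fun ξ η h => sub_eq_zero.1 (hker _ ?_)
  rw [map_sub, sub_eq_zero]
  exact congrArg Subtype.val h

variable (hZs : ∀ ⦃p q : PrimeSpectrum R⦄, p.asIdeal ≤ q.asIdeal → p ∈ Zs → q ∈ Zs)
include hZs

/-- The coprimary case. -/
theorem finite_coprimary (p : PrimeSpectrum R) (hg : Good Zs p) :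
    ∀ (k : ℕ) (M : Type u) [AddCommGroup M] [Module R M] [Module.Finite R M],
      (∀ a ∈ p.asIdeal ^ k, ∀ m : M, a • m = 0) → (∀ s : R, s ∉ p.asIdeal → ∀ m : M, s • m = 0 → m = 0) →
      Module.Finite R (Hull Zs M) := by
  intro k
  induction k with
  | zero =>
    intro M _ _ _ hk _
    have : Subsingleton (Hull Zs M) := subsingleton_hull Zs fun Q _ m =>
      ⟨1, fun h => Q.isPrime.ne_top ((Ideal.eq_top_iff_one _).2 h), hk 1 (by simp) m⟩
    infer_instance
  | succ k ih =>
    intro M _ _ _ hk hreg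
    by_cases hp : p ∈ Zs
    · have : Subsingleton (Hull Zs M) := subsingleton_hull Zs fun Q hQ m => by
        obtain ⟨t, htp, htQ⟩ := SetLike.not_le_iff_exists.1 fun hle => hQ (hZs hle hp)
        exact ⟨t ^ (k + 1), fun h => htQ (Q.isPrime.mem_of_pow_mem _ h), hk _ (Ideal.pow_mem_pow htp _) m⟩
      infer_instance
    let N : Submodule R M := Submodule.torsionBySet R M p.asIdeal
    have hN : ∀ m : M, m ∈ N ↔ ∀ a ∈ p.asIdeal, a • m = 0 := fun m =>
      ⟨fun h a ha => (Submodule.mem_torsionBySet_iff _ _).1 h ⟨a, ha⟩,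
        fun h => (Submodule.mem_torsionBySet_iff _ _).2 fun a => h a a.2⟩
    obtain ⟨r, a, ha⟩ := Submodule.fg_iff_exists_fin_generating_family.1 (IsNoetherian.noetherian p.asIdeal)
    let g : M →ₗ[R] (Fin r → M) := LinearMap.pi fun i => a i • LinearMap.id
    have hex : Function.Exact N.subtype g.rangeRestrict := fun m => by
      refine ⟨fun h => ⟨⟨m, (hN m).2 fun b hb => ?_⟩, rfl⟩, ?_⟩
      · rw [← ha] at hb
        obtain ⟨c, rfl⟩ := (Submodule.mem_span_range_iff_exists_fun R).1 hb
        rw [Finset.sum_smul]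
        refine Finset.sum_eq_zero fun i _ => ?_
        rw [smul_eq_mul, mul_smul]
        have hi : a i • m = 0 := congrFun (congrArg Subtype.val h) i
        rw [hi, smul_zero]
      · rintro ⟨m, rfl⟩
        exact Subtype.ext <| funext fun i => (hN m).1 m.2 (a i) (ha ▸ Submodule.subset_span ⟨i, rfl⟩)
    refine finite_of_exact Zs N.injective_subtype hex ?_ ?_
    · have htor : Module.IsTorsionBySet R N p.asIdeal := fun n b => Subtype.ext ((hN n).1 n.2 b b.2)
      letI := htor.module
      haveI : IsScalarTower R (R ⧸ p.asIdeal) N := htor.isScalarTower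
      haveI : Module.Finite R N := Module.Finite.iff_fg.2 (IsNoetherian.noetherian N)
      haveI : Module.Finite (R ⧸ p.asIdeal) N := Module.Finite.of_restrictScalars_finite R _ _
      obtain ⟨n, f, hf⟩ := exists_functionals (R ⧸ p.asIdeal) N fun b x hb hx => by
        obtain ⟨s, rfl⟩ := Ideal.Quotient.mk_surjective b
        rw [← Ideal.Quotient.algebraMap_eq, algebraMap_smul] at hx
        exact Subtype.ext (hreg s (fun h => hb (Ideal.Quotient.eq_zero_iff_mem.2 h)) x (congrArg Subtype.val hx))
      exact finite_of_pi Zs (fun i => (f i).restrictScalars R) hf fun _ => finite_quot Zs p hp hg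
    · refine ih _ (fun b hb x => ?_) fun s hs x hx => ?_
      · obtain ⟨_, m, rfl⟩ := x
        refine Subtype.ext <| funext fun i => ?_
        show b • a i • m = 0
        rw [← mul_smul]
        exact hk _ (pow_succ p.asIdeal k ▸ Ideal.mul_mem_mul hb (ha ▸ Submodule.subset_span ⟨i, rfl⟩)) m
      · exact Subtype.ext <| funext fun i => hreg s hs _ (congrFun (congrArg Subtype.val hx) i)

/-- The closure of a finite module is finite. -/
theorem finite_hull (M : Type u) [AddCommGroup M] [Module R M] [Module.Finite R M]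
    (h : ∀ p : PrimeSpectrum R, p.asIdeal ∈ associatedPrimes R M → Good Zs p) :
    Module.Finite R (Hull Zs M) := by
  haveI : Finite (associatedPrimes R M) := (associatedPrimes.finite R M).to_subtype
  have hN : ∀ p : associatedPrimes R M, ∃ N : Submodule R M, p.1 ∉ associatedPrimes R N ∧
      ∀ q ∈ associatedPrimes R (M ⧸ N), q = p.1 := fun p => by
    obtain ⟨N, hN, hmax⟩ := set_has_maximal_iff_noetherian.2 (inferInstance : IsNoetherian R M)
      {N : Submodule R M | p.1 ∉ associatedPrimes R N} ⟨⊥, by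
        show p.1 ∉ associatedPrimes R (⊥ : Submodule R M)
        rw [associatedPrimes.eq_empty_of_subsingleton]
        exact Set.notMem_empty _⟩
    refine ⟨N, hN, fun q hq => by_contra fun hne => ?_⟩
    obtain ⟨-, f, hf⟩ := (isAssociatedPrime_iff_exists_injective_linearMap q (M ⧸ N)).1 hq
    let N' : Submodule R M := (LinearMap.range f).comap N.mkQ
    have hle : N ≤ N' := fun x hx => ⟨0, by rw [map_zero, Submodule.mkQ_apply,
      (Submodule.Quotient.mk_eq_zero N).2 hx]⟩
    let g : N' →ₗ[R] LinearMap.range f := (N.mkQ.comp N'.subtype).codRestrict _ fun x => x.2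
    have hex : Function.Exact (Submodule.inclusion hle) g := fun x =>
      ⟨fun hx => ⟨⟨x.1, (Submodule.Quotient.mk_eq_zero N).1 (congrArg Subtype.val hx)⟩, rfl⟩,
        fun ⟨y, hy⟩ => by
          subst hy
          exact Subtype.ext ((Submodule.Quotient.mk_eq_zero N).2 y.2)⟩
    have hnlt : N < N' := by
      refine lt_of_le_of_ne hle fun e => ?_
      obtain ⟨x, hx⟩ := Submodule.Quotient.mk_surjective N (f 1)
      have hxN : x ∈ N := by rw [e]; exact ⟨1, hx.symm⟩
      rw [(Submodule.Quotient.mk_eq_zero N).2 hxN, ← map_zero f] at hx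
      have hq1 : (1 : R ⧸ q) = 0 := hf hx.symm
      rw [← map_one (Ideal.Quotient.mk q), Ideal.Quotient.eq_zero_iff_mem] at hq1
      exact hq.isPrime.ne_top ((Ideal.eq_top_iff_one q).2 hq1)
    refine hmax N' (fun hp => ?_) hnlt
    rcases associatedPrimes.subset_union_of_exact (Submodule.inclusion_injective hle) hex hp with hp | hp
    · exact hN hp
    · haveI := hq.isPrime
      rw [← LinearEquiv.AssociatedPrimes.eq (LinearEquiv.ofInjective f hf),
        associatedPrimes.eq_singleton_of_isPrimary (Ideal.IsPrime.isPrimary hq.isPrime)] at hp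
      rw [Set.mem_singleton_iff.1 hp, Ideal.IsPrime.radical hq.isPrime] at hne
      exact hne rfl
  choose N hNp hNass using hN
  refine finite_of_pi Zs (fun p => (N p).mkQ) (fun m hm => ?_) fun p => ?_
  · by_contra hne
    obtain ⟨q, hq, -⟩ := exists_le_isAssociatedPrime_of_isNoetherianRing R
      (M := ↥(⨅ p, N p)) ⟨m, (Submodule.mem_iInf _).2 fun p =>
        (Submodule.Quotient.mk_eq_zero (N p)).1 (hm p)⟩ fun e => hne (congrArg Subtype.val e)
    have hqM : q ∈ associatedPrimes R M :=
      associatedPrimes.subset_of_injective (Submodule.injective_subtype _) hq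
    exact hNp ⟨q, hqM⟩ (associatedPrimes.subset_of_injective
      (Submodule.inclusion_injective (iInf_le N ⟨q, hqM⟩)) hq)
  · haveI : p.1.IsPrime := IsAssociatedPrime.isPrime p.2
    have hmem : ∀ s : R, s ∉ p.1 → ∀ m : M ⧸ N p, s • m = 0 → m = 0 := fun s hs m hm =>
      by_contra fun hne => by
        have hz : s ∈ {r : R | ∃ x : M ⧸ N p, x ≠ 0 ∧ r • x = 0} := ⟨m, hne, hm⟩
        rw [← biUnion_associatedPrimes_eq_zero_divisors R (M ⧸ N p)] at hz
        obtain ⟨q, hq, hsq⟩ := Set.mem_iUnion₂.1 hz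
        exact hs (hNass p q hq ▸ hsq)
    have hrad : p.1 ≤ (Module.annihilator R (M ⧸ N p)).radical := fun a ha => by
      rw [Ideal.radical_eq_sInf, Submodule.mem_sInf]
      intro q hq
      obtain ⟨q', hq', hle⟩ := haveI := hq.2; Ideal.exists_minimalPrimes_le hq.1
      refine hle ?_
      rw [hNass p q' (Module.associatedPrimes.minimalPrimes_annihilator_subset_associatedPrimes
        (R := R) (M := M ⧸ N p) hq')]
      exact ha
    obtain ⟨k, hk⟩ := Ideal.exists_pow_le_of_le_radical_of_fg hrad (IsNoetherian.noetherian _)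
    exact finite_coprimary Zs hZs ⟨p.1, inferInstance⟩ (h _ p.2) k (M ⧸ N p)
      (fun a ha => Module.mem_annihilator.1 (hk ha)) hmem

end Groth.Agent.Der55.Hull
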