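import Groth.Agent.Der55.Hull.Core

/-!
# Global sections of a closure embed into the algebraic closure
-/

set_option autoImplicit false

namespace Groth.Agent.Der55.Hull

universe u

variable {R : Type u} [CommRing R] {Zs : Set (PrimeSpectrum R)}
  {M : Type u} [AddCommGroup M] [Module R M] {G : Type u} [AddCommGroup G] [Module R G]
  {ρ : M →ₗ[R] G} {K : {Q : PrimeSpectrum R // Q ∉ Zs} → Submodule R G}

/-- The germ data of a module of sections `G` over `M`. -/
structure GermData (Zs : Set (PrimeSpectrum R)) (ρ : M →ₗ[R] G)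
    (K : {Q : PrimeSpectrum R // Q ∉ Zs} → Submodule R G) : Prop where
  mono : ∀ Q Q' : {Q : PrimeSpectrum R // Q ∉ Zs}, Q'.1.asIdeal ≤ Q.1.asIdeal → K Q ≤ K Q'
  surj : ∀ Q z, ∃ t : R, t ∉ Q.1.asIdeal ∧ ∃ m : M, t • z - ρ m ∈ K Q
  ker : ∀ Q m, ρ m ∈ K Q → ∃ t : R, t ∉ Q.1.asIdeal ∧ t • m = 0
  cancel : ∀ (Q : {Q : PrimeSpectrum R // Q ∉ Zs}) (t : R), t ∉ Q.1.asIdeal → ∀ z : G, t • z ∈ K Q → z ∈ K Q
  sep : ∀ z, (∀ Q, z ∈ K Q) → z = 0

/-- The value at a point. -/
noncomputable def GermData.val (h : GermData Zs ρ K) (Q : {Q : PrimeSpectrum R // Q ∉ Zs}) (z : G) : Loc M Q.1 :=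
  LocalizedModule.mk (h.surj Q z).choose_spec.2.choose ⟨_, (h.surj Q z).choose_spec.1⟩

theorem GermData.val_eq (h : GermData Zs ρ K) (Q : {Q : PrimeSpectrum R // Q ∉ Zs}) {z : G} {m : M}
    (s : Q.1.asIdeal.primeCompl) (hm : (s : R) • z - ρ m ∈ K Q) : h.val Q z = LocalizedModule.mk m s := by
  set t : Q.1.asIdeal.primeCompl := ⟨_, (h.surj Q z).choose_spec.1⟩
  have hm' : (t : R) • z - ρ (h.surj Q z).choose_spec.2.choose ∈ K Q := (h.surj Q z).choose_spec.2.choose_spec
  set m' := (h.surj Q z).choose_spec.2.choose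
  have key : ρ ((s : R) • m' - (t : R) • m) ∈ K Q := by
    have := Submodule.sub_mem _ (Submodule.smul_mem _ (t : R) hm) (Submodule.smul_mem _ (s : R) hm')
    rw [map_sub, map_smul, map_smul]
    rw [smul_sub, smul_sub, smul_comm (t : R) (s : R) z] at this
    convert this using 1
    abel
  obtain ⟨u, hu, h0⟩ := h.ker Q _ key
  refine LocalizedModule.mk_eq.2 ⟨⟨u, hu⟩, ?_⟩
  rw [smul_sub, sub_eq_zero] at h0
  exact h0

theorem GermData.finite [IsNoetherianRing R] (h : GermData Zs ρ K) (hH : Module.Finite R (Hull Zs M)) :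
    Module.Finite R G := by
  let Φ : G →ₗ[R] Hull Zs M :=
    { toFun := fun z => ⟨fun Q => h.val Q z, fun Q Q' hle => by
        obtain ⟨t, ht, m, hm⟩ := h.surj Q z
        show sp hle (h.val Q z) = h.val Q' z
        rw [h.val_eq Q ⟨t, ht⟩ hm, sp_mk]
        exact (h.val_eq Q' (shrink hle ⟨t, ht⟩) (h.mono Q Q' hle hm)).symm⟩
      map_add' := fun z w => Subtype.ext <| funext fun Q => by
        obtain ⟨t, ht, m, hm⟩ := h.surj Q z
        obtain ⟨s, hs, n, hn⟩ := h.surj Q w
        show h.val Q (z + w) = h.val Q z + h.val Q w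
        rw [h.val_eq Q ⟨t, ht⟩ hm, h.val_eq Q ⟨s, hs⟩ hn, LocalizedModule.mk_add_mk]
        refine h.val_eq Q _ ?_
        have := Submodule.add_mem _ (Submodule.smul_mem _ s hm) (Submodule.smul_mem _ t hn)
        convert this using 1
        simp only [Submonoid.coe_mul, Submonoid.smul_def, map_add, map_smul, smul_sub, smul_add, mul_smul]
        rw [smul_comm s t z]
        abel
      map_smul' := fun r z => Subtype.ext <| funext fun Q => by
        obtain ⟨t, ht, m, hm⟩ := h.surj Q z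
        show h.val Q (r • z) = r • h.val Q z
        rw [h.val_eq Q ⟨t, ht⟩ hm, LocalizedModule.smul'_mk]
        refine h.val_eq Q _ ?_
        have := Submodule.smul_mem _ r hm
        rwa [smul_sub, smul_comm r, ← map_smul] at this }
  have hker : ∀ z, Φ z = 0 → z = 0 := fun z hz => h.sep z fun Q => by
    obtain ⟨t, ht, m, hm⟩ := h.surj Q z
    have h0 : h.val Q z = 0 := congrFun (congrArg Subtype.val hz) Q
    rw [h.val_eq Q ⟨t, ht⟩ hm, mk_eq_zero_iff] at h0
    obtain ⟨u, hu, h0⟩ := h0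
    have h1 : (u * t) • z ∈ K Q := by
      have := Submodule.smul_mem _ u hm
      rw [smul_sub, ← map_smul, h0, map_zero, sub_zero, ← mul_smul] at this
      exact this
    exact h.cancel Q (u * t) (Q.1.isPrime.mul_notMem hu ht) z h1
  refine Module.Finite.of_injective Φ fun z w e => sub_eq_zero.1 (hker _ ?_)
  rw [map_sub, e, sub_self]

end Groth.Agent.Der55.Hull
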