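import Groth.Agent.Der55.Hull.Germs
import Groth.Agent.ZClosLib.ClosedDepth

/-!
# Finiteness of the sections of the closure on an affine open
-/

set_option autoImplicit false
set_option linter.style.haveILetI false

universe u

open CategoryTheory CategoryTheory.Limits AlgebraicGeometry TopologicalSpace Opposite

namespace Groth.Agent.Der55.Hull

open Groth.Agent.ZClosLib

variable {X : Scheme.{u}} {V : X.Opens}

/-- The primes of the points of `Z` in an affine open, read in an isomorphic ring. -/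
def primesOf {R : Type u} [CommRing R] (hV : IsAffineOpen V) (e : R ≃+* Γ(X, V)) (Z : Set X) :
    Set (PrimeSpectrum R) :=
  {Q | ∃ (y : X) (hy : y ∈ V), y ∈ Z ∧ Q.asIdeal = (hV.primeIdealOf ⟨y, hy⟩).asIdeal.comap e.toRingHom}

theorem exists_point_comap {R : Type u} [CommRing R] (hV : IsAffineOpen V) (e : R ≃+* Γ(X, V)) (Q : PrimeSpectrum R) :
    ∃ (y : X) (hy : y ∈ V), Q.asIdeal = (hV.primeIdealOf ⟨y, hy⟩).asIdeal.comap e.toRingHom := by
  obtain ⟨y, hy, h⟩ := QCoh.exists_point hV ⟨Q.asIdeal.comap e.symm.toRingHom, inferInstance⟩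
  refine ⟨y, hy, ?_⟩
  rw [h]
  ext r
  simp

theorem germ_zero_congr {G : X.Modules} {x y : X} (h : y = x) (hy : y ∈ V) (hx : x ∈ V) {z : Γ(G, V)}
    (hz : G.presheaf.germ V y hy z = 0) : G.presheaf.germ V x hx z = 0 := by
  subst h; exact hz

/-- Section-level `ρ`. -/
noncomputable def rhoLin (Z : Set X) (F : X.Modules) (V : X.Opens) :
    Γ(F, V) →ₗ[Γ(X, V)] Γ((ZClos.H0 Z).obj F, V) where
  toFun := (ZClos.rhoApp Z F).app V
  map_add' := map_add ((ZClos.rhoApp Z F).app V).hom
  map_smul' r m := (ZClos.rhoApp Z F).app_smul r m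

variable [IsLocallyNoetherian X] {Z : Set X} {F : X.Modules}

theorem finite_sections_H0 (hF : Coh.IsCoh F) (hZ : StableUnderSpecialization Z) (hV : IsAffineOpen V)
    {R : Type u} [CommRing R] (e : R ≃+* Γ(X, V))
    (h : letI : Module R Γ(F, V) := Module.compHom _ e.toRingHom
      ∀ p : PrimeSpectrum R, p.asIdeal ∈ associatedPrimes R Γ(F, V) → Good (primesOf hV e Z) p) :
    Module.Finite Γ(X, V) Γ((ZClos.H0 Z).obj F, V) := by
  haveI : IsNoetherianRing Γ(X, V) := IsLocallyNoetherian.component_noetherian ⟨V, hV⟩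
  haveI : IsNoetherianRing R := isNoetherianRing_of_ringEquiv _ e.symm
  let G := (ZClos.H0 Z).obj F
  letI : Algebra R Γ(X, V) := e.toRingHom.toAlgebra
  letI : Module R Γ(F, V) := Module.compHom _ e.toRingHom
  letI : Module R Γ(G, V) := Module.compHom _ e.toRingHom
  haveI : IsScalarTower R Γ(X, V) Γ(F, V) := IsScalarTower.of_algebraMap_smul fun _ _ => rfl
  haveI : IsScalarTower R Γ(X, V) Γ(G, V) := IsScalarTower.of_algebraMap_smul fun _ _ => rfl
  haveI : Module.Finite R Γ(X, V) := Module.Finite.of_surjective (Algebra.linearMap R Γ(X, V)) e.surjective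
  haveI := finite_sections hF hV
  haveI : Module.Finite R Γ(F, V) := Module.Finite.trans Γ(X, V) _
  let Zs := primesOf hV e Z
  choose pt hpt hpteq using exists_point_comap hV e
  have hnot : ∀ Q : {Q : PrimeSpectrum R // Q ∉ Zs}, pt Q.1 ∉ Z := fun Q hQ =>
    Q.2 ⟨_, hpt Q.1, hQ, hpteq Q.1⟩
  have hmem : ∀ (Q : PrimeSpectrum R) (r : R), pt Q ∈ X.basicOpen (e r) ↔ r ∉ Q.asIdeal := fun Q r => by
    rw [QCoh.mem_basicOpen_iff_notMem hV (hpt Q), hpteq Q]
    rfl
  have hspec : ∀ Q Q' : PrimeSpectrum R, Q'.asIdeal ≤ Q.asIdeal → pt Q' ⤳ pt Q := fun Q Q' hle => by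
    refine (AssLib.primeIdealOf_le_iff hV (hpt Q) (hpt Q')).1 fun x hx => ?_
    obtain ⟨r, rfl⟩ := e.surjective x
    have h' : r ∈ Q'.asIdeal := by rw [hpteq Q']; exact hx
    have := hle h'
    rwa [hpteq Q] at this
  let K : {Q : PrimeSpectrum R // Q ∉ Zs} → Submodule R Γ(G, V) := fun Q =>
    letI := QCoh.stalkModule G (hpt Q.1)
    (LinearMap.ker (QCoh.germLin G (hpt Q.1))).restrictScalars R
  have hK : ∀ Q z, z ∈ K Q ↔ G.presheaf.germ V (pt Q.1) (hpt Q.1) z = 0 := fun Q z => Iff.rfl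
  let ρ : Γ(F, V) →ₗ[R] Γ(G, V) := (rhoLin Z F V).restrictScalars R
  have hd : GermData Zs ρ K :=
    { mono := fun Q Q' hle z hz => by
        rw [hK] at hz ⊢
        rw [← G.presheaf.germ_stalkSpecializes_apply (hpt Q.1) (hspec Q.1 Q'.1 hle) z, hz, map_zero]
      surj := fun Q z => by
        obtain ⟨f, hf⟩ := (isZClosedAt_of_not_mem F (hnot Q)).2 (G.presheaf.germ V (pt Q.1) (hpt Q.1) z)
        letI := QCoh.stalkModule F (hpt Q.1)
        haveI := QCoh.isLocalizedModule_germLin hF.1 hV (hpt Q.1)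
        obtain ⟨⟨m, s⟩, hs⟩ := IsLocalizedModule.surj
          (hV.primeIdealOf ⟨pt Q.1, hpt Q.1⟩).asIdeal.primeCompl (QCoh.germLin F (hpt Q.1)) f
        refine ⟨e.symm s, fun h' => ?_, m, (hK _ _).2 ?_⟩
        · rw [hpteq Q.1, Ideal.mem_comap, RingEquiv.toRingHom_eq_coe, RingEquiv.coe_toRingHom,
            e.apply_symm_apply] at h'
          exact s.2 h' 
        · show G.presheaf.germ V (pt Q.1) (hpt Q.1) (e (e.symm (s : Γ(X, V))) • z - (ZClos.rhoApp Z F).app V m) = 0
          rw [e.apply_symm_apply, map_sub, QCoh.germ_smul', ← hf, ← germ_rho V (hpt Q.1) m, sub_eq_zero]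
          have hs' : X.presheaf.germ V _ (hpt Q.1) (s : Γ(X, V)) • f = F.presheaf.germ V _ (hpt Q.1) m := hs
          rw [← hs']
          exact (((DerSch.stalkFunctor X (pt Q.1)).map (ZClos.rhoApp Z F)).hom.map_smul _ f).symm
      ker := fun Q m hm => by
        rw [hK] at hm
        have h0 : F.presheaf.germ V (pt Q.1) (hpt Q.1) m = 0 :=
          (isZClosedAt_of_not_mem F (hnot Q)).1 (((germ_rho V (hpt Q.1) m).trans hm).trans (map_zero _).symm)
        obtain ⟨f, hf, hfm⟩ := (QCoh.germ_eq_zero_iff hF.1 hV (hpt Q.1) m).1 h0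
        refine ⟨e.symm f, fun h' => ?_, ?_⟩
        · have := (hmem Q.1 (e.symm f)).1 (by rw [e.apply_symm_apply]; exact hf)
          exact this h'
        · show e (e.symm f) • m = 0
          rw [e.apply_symm_apply, hfm]
      cancel := fun Q t ht z hz => by
        rw [hK] at hz ⊢
        have hu := (X.mem_basicOpen (e t) (pt Q.1) (hpt Q.1)).1 ((hmem Q.1 t).2 ht)
        change G.presheaf.germ V (pt Q.1) (hpt Q.1) (e t • z) = 0 at hz
        rwa [QCoh.germ_smul', hu.smul_eq_zero] at hz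
      sep := fun z hz => by
        obtain ⟨T, hT⟩ := exists_cl_res_eq hZ (F := G) z 0 fun x hx hxZ => by
          let Q : PrimeSpectrum R := ⟨(hV.primeIdealOf ⟨x, hx⟩).asIdeal.comap e.toRingHom, inferInstance⟩
          have hxy : pt Q = x := by
            refine AssLib.eq_of_primeIdealOf_eq hV hx (hpt Q) (Ideal.comap_injective_of_surjective _ e.surjective ?_)
            exact (hpteq Q).symm
          have hQ : Q ∉ Zs := fun ⟨y, hy, hyZ, hQy⟩ => by
            refine hxZ ?_
            rw [← AssLib.eq_of_primeIdealOf_eq hV hx hy (Ideal.comap_injective_of_surjective _ e.surjective hQy.symm)]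
            exact hyZ
          have := (hK ⟨Q, hQ⟩ z).1 (hz ⟨Q, hQ⟩)
          rw [map_zero]
          exact germ_zero_congr hxy _ hx this
        exact (res_H0_bijective T hV.isCompact).1 hT }
  haveI : Module.Finite R Γ(G, V) := hd.finite (finite_hull Zs (fun p q hpq hp => by
    obtain ⟨y, hy, hyZ, hp⟩ := hp
    refine ⟨pt q, hpt q, hZ ?_ hyZ, hpteq q⟩
    refine (AssLib.primeIdealOf_le_iff hV (hpt q) hy).1 fun x hx => ?_
    obtain ⟨r, rfl⟩ := e.surjective x
    have h' : r ∈ p.asIdeal := by rw [hp]; exact hx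
    have := hpq h'
    rwa [hpteq q] at this) _ h)
  exact Module.Finite.of_restrictScalars_finite R Γ(X, V) _

omit [IsLocallyNoetherian X] in
/-- The height in the coordinate ring bounds the dimension of the local ring of a closure. -/
theorem two_le_height_of_dim (hV : IsAffineOpen V) {x y : X} (hx : x ∈ V) (hy : y ∈ V) (h : x ⤳ y)
    (hd : (2 : WithBot ℕ∞) ≤ ringKrullDim (X.presheaf.stalk y ⧸
      (IsLocalRing.maximalIdeal (X.presheaf.stalk x)).comap (X.presheaf.stalkSpecializes h).hom)) :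
    (2 : ℕ∞) ≤ ((hV.primeIdealOf ⟨y, hy⟩).asIdeal.map
      (Ideal.Quotient.mk (hV.primeIdealOf ⟨x, hx⟩).asIdeal)).height := by
  set p := (hV.primeIdealOf ⟨x, hx⟩).asIdeal
  set q := (hV.primeIdealOf ⟨y, hy⟩).asIdeal
  set P := (IsLocalRing.maximalIdeal (X.presheaf.stalk x)).comap (X.presheaf.stalkSpecializes h).hom
  letI := QCoh.stalkAlg (X := X) hy
  haveI := QCoh.isLocalization_stalk' hV hy
  have hcomap : P.comap (X.presheaf.germ V y hy).hom = p := by
    rw [show p = _ from (AssLib.comap_maximalIdeal_stalk hV hx).symm, Ideal.comap_comap, ← CommRingCat.hom_comp,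
      X.presheaf.germ_stalkSpecializes hy h]
  let φ : Γ(X, V) ⧸ p →+* X.presheaf.stalk y ⧸ P :=
    Ideal.quotientMap P (algebraMap Γ(X, V) (X.presheaf.stalk y)) hcomap.ge
  let f : PrimeSpectrum (X.presheaf.stalk y ⧸ P) → PrimeSpectrum (Γ(X, V) ⧸ p) := PrimeSpectrum.comap φ
  have hinj : Function.Injective f := by
    intro a b hab
    refine PrimeSpectrum.ext (Ideal.comap_injective_of_surjective (Ideal.Quotient.mk P)
      Ideal.Quotient.mk_surjective ?_)
    rw [← IsLocalization.map_under q.primeCompl (X.presheaf.stalk y) (a.asIdeal.comap (Ideal.Quotient.mk P)),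
      ← IsLocalization.map_under q.primeCompl (X.presheaf.stalk y) (b.asIdeal.comap (Ideal.Quotient.mk P))]
    congr 1
    ext r
    exact SetLike.ext_iff.1 (congrArg PrimeSpectrum.asIdeal hab) (Ideal.Quotient.mk p r)
  have hmono : StrictMono f :=
    Monotone.strictMono_of_injective (fun a b hab => Ideal.comap_mono (f := φ) hab) hinj
  haveI : P.IsPrime := inferInstance
  haveI : IsLocalRing (X.presheaf.stalk y ⧸ P) := .of_surjective' _ Ideal.Quotient.mk_surjective
  let m : PrimeSpectrum (X.presheaf.stalk y ⧸ P) := IsLocalRing.closedPoint _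
  have hfm : (f m).asIdeal = q.map (Ideal.Quotient.mk p) := by
    rw [← Ideal.map_comap_of_surjective (Ideal.Quotient.mk p) Ideal.Quotient.mk_surjective (f m).asIdeal]
    congr 1
    show ((IsLocalRing.maximalIdeal (X.presheaf.stalk y ⧸ P)).comap φ).comap _ = q
    rw [Ideal.comap_comap, Ideal.quotientMap_comp_mk, ← Ideal.comap_comap,
      IsLocalRing.eq_maximalIdeal (Ideal.comap_isMaximal_of_surjective (Ideal.Quotient.mk P)
        Ideal.Quotient.mk_surjective (K := IsLocalRing.maximalIdeal (X.presheaf.stalk y ⧸ P)))]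
    exact AssLib.comap_maximalIdeal_stalk hV hy
  rw [← IsLocalRing.maximalIdeal_height_eq_ringKrullDim] at hd
  have h2 : (2 : ℕ∞) ≤ (IsLocalRing.maximalIdeal (X.presheaf.stalk y ⧸ P)).height := WithBot.coe_le_coe.1 hd
  rw [show IsLocalRing.maximalIdeal (X.presheaf.stalk y ⧸ P) = m.asIdeal from rfl,
    PrimeSpectrum.height_eq_orderHeight m] at h2
  rw [← hfm, PrimeSpectrum.height_eq_orderHeight (f m)]
  exact h2.trans (Order.height_le_height_apply_of_strictMono f hmono m)

end Groth.Agent.Der55.Hull
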