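import Groth.Agent.Der55.Hull.Scheme
import Groth.Prelude.Def_EGA4c

/-!
# The affine criterion for coherence of the closure
-/

set_option autoImplicit false
set_option linter.style.haveILetI false

universe u

open CategoryTheory CategoryTheory.Limits AlgebraicGeometry TopologicalSpace Opposite

namespace Groth.Agent.Der55.Hull

open Groth.Agent.ZClosLib

variable (A : Type u) [CommRing A]

/-- `A ≅ Γ(Spec A, ⊤)`. -/
noncomputable def gEquiv : A ≃+* Γ(Spec (CommRingCat.of A), ⊤) :=
  (Scheme.ΓSpecIso (CommRingCat.of A)).symm.commRingCatIsoToRingEquiv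

theorem mem_basicOpen_gEquiv (y : Spec (CommRingCat.of A)) (t : A) :
    y ∈ (Spec (CommRingCat.of A)).basicOpen (gEquiv A t) ↔ t ∉ y.asIdeal := by
  show y ∈ (Spec (CommRingCat.of A)).basicOpen ((Scheme.ΓSpecIso (CommRingCat.of A)).inv t) ↔ _
  rw [basicOpen_eq_of_affine]
  rfl

theorem comap_primeIdealOf_top (y : Spec (CommRingCat.of A)) :
    ((isAffineOpen_top (Spec (CommRingCat.of A))).primeIdealOf ⟨y, trivial⟩).asIdeal.comap (gEquiv A).toRingHom
      = y.asIdeal := by
  ext t
  exact not_iff_not.1 ((QCoh.mem_basicOpen_iff_notMem (isAffineOpen_top _) (trivial : y ∈ (⊤ : (Spec (CommRingCat.of A)).Opens))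
    (gEquiv A t)).symm.trans (mem_basicOpen_gEquiv A y t))

theorem primesOf_top (Z : Set (PrimeSpectrum A)) :
    primesOf (isAffineOpen_top (Spec (CommRingCat.of A))) (gEquiv A) Z = Z := by
  ext Q
  constructor
  · rintro ⟨y, hy, hyZ, hQ⟩
    have hQ : Q.asIdeal = y.asIdeal := hQ.trans (comap_primeIdealOf_top A y)
    have : Q = y := PrimeSpectrum.ext hQ
    exact this ▸ hyZ
  · exact fun h => ⟨Q, trivial, h, (comap_primeIdealOf_top A Q).symm⟩

variable (M : Type u) [AddCommGroup M] [Module A M]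

/-- Global sections of `M~`. -/
noncomputable def secEquiv :
    letI : Module A Γ(EGA4.tildeOf A M, ⊤) := Module.compHom _ (gEquiv A).toRingHom
    M ≃ₗ[A] Γ(EGA4.tildeOf A M, ⊤) :=
  letI : Module A Γ(EGA4.tildeOf A M, ⊤) := Module.compHom _ (gEquiv A).toRingHom
  { toFun := fun m => (tilde.isoTop (ModuleCat.of (CommRingCat.of A) M)).hom m
    invFun := fun s => (tilde.isoTop (ModuleCat.of (CommRingCat.of A) M)).inv s
    map_add' := map_add (tilde.isoTop (ModuleCat.of (CommRingCat.of A) M)).hom.hom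
    map_smul' := map_smul (tilde.isoTop (ModuleCat.of (CommRingCat.of A) M)).hom.hom
    left_inv := fun m => (tilde.isoTop (ModuleCat.of (CommRingCat.of A) M)).hom_inv_id_apply m
    right_inv := fun s => (tilde.isoTop (ModuleCat.of (CommRingCat.of A) M)).inv_hom_id_apply s }

variable [IsNoetherianRing A] [Module.Finite A M]

omit [IsNoetherianRing A] in
theorem isCoh_tildeOf : Coh.IsCoh (EGA4.tildeOf A M) :=
  ⟨inferInstanceAs (tilde (ModuleCat.of (CommRingCat.of A) M)).IsQuasicoherent,
    (QCoh.isFT_tilde_iff (R := CommRingCat.of A) _).2 ‹_›⟩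

theorem isCoh_H0 {Z : Set (PrimeSpectrum A)} (hZ : StableUnderSpecialization Z)
    (h : ∀ p : PrimeSpectrum A, p.asIdeal ∈ associatedPrimes A M → Good Z p) :
    Coh.IsCoh ((ZClos.H0 (X := Spec (CommRingCat.of A)) Z).obj (EGA4.tildeOf A M)) := by
  have hF := isCoh_tildeOf A M
  have hG := isQCoh_H0 (X := Spec (CommRingCat.of A)) (Z := Z) hF.1
  refine ⟨hG, QCoh.isFT_of_finite hG (fun _ : PUnit.{u + 1} => (⊤ : (Spec (CommRingCat.of A)).Opens))
    (by simp [IsOpenCover]) (fun _ => isAffineOpen_top _) fun _ => ?_⟩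
  refine finite_sections_H0 hF hZ (isAffineOpen_top _) (gEquiv A) ?_
  letI : Module A Γ(EGA4.tildeOf A M, ⊤) := Module.compHom _ (gEquiv A).toRingHom
  intro p hp
  rw [← LinearEquiv.AssociatedPrimes.eq (secEquiv A M)] at hp
  rw [primesOf_top]
  exact h p hp

end Groth.Agent.Der55.Hull
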